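import Mathlib
import Groth.Agent.Lib.Helper1.AmpleDev4
import Groth.Agent.Lib.Helper1.AmpleDev2
import Groth.Agent.Lib.Helper1.QcAbel
import Groth.Agent.Lib.Helper1.PushQc
import Groth.Agent.Lib.Helper1.H1Ext
import Groth.Agent.Lib.Helper1.Dv34
import Groth.Agent.Lib.Helper4.SubPush1
import Groth.Agent.Lib.Helper9.ThickAff
import Groth.Agent.Lib.Lead.CIU3
import Groth.Agent.Lib.Lead.PBQc
import Groth.Agent.S0007
import Groth.Agent.S0009
import Groth.Agent.S0012

/-!
# A scheme covered by finitely many affine closed subschemes is affine (helper7)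

Dévissage: a quasi-coherent module killed by a product of ideal sheaves whose closed subschemes
are affine has vanishing `H¹`; Serre's criterion on the closed subscheme of the product of the
ideals, then the thickening theorem.
-/

set_option linter.style.haveILetI false
set_option linter.unusedVariables false
set_option linter.unusedSectionVars false
set_option autoImplicit false
set_option backward.isDefEq.respectTransparency.types false
set_option synthInstance.maxHeartbeats 400000
set_option maxHeartbeats 1600000

universe u v

namespace Groth.Agent.Helper7.AffCover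

open CategoryTheory CategoryTheory.Limits AlgebraicGeometry TopologicalSpace Opposite
open Groth.Agent.Helper1 Groth.Agent.Helper1.Dv Groth.Agent.Helper1.AmpleDev

variable {X : Scheme.{u}}

/-- `H¹` of a quasi-coherent module killed by an ideal sheaf with affine closed subscheme
vanishes -/
theorem h1_of_killed (I : X.IdealSheafData) [IsAffine I.subscheme] (M : X.Modules)
    [M.IsQuasicoherent] (hk : ClSub.KilledByIdeal I M) : Subsingleton (Coh.HH X M 1) := by
  haveI : IsIso ((Scheme.Modules.pullbackPushforwardAdjunction I.subschemeι).unit.app M) := by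
    apply Groth.Agent.Lead.CIU.isIso_unit_of_killed_global
    intro U hU a ha m
    refine hk ⟨U, hU⟩ a ?_ m
    rw [← I.ker_subschemeι_app ⟨U, hU⟩]
    exact ha
  let e := asIso ((Scheme.Modules.pullbackPushforwardAdjunction I.subschemeι).unit.app M)
  haveI : ((Scheme.Modules.pullback I.subschemeι).obj M).IsQuasicoherent :=
    Groth.Agent.Lead.PB.isQuasicoherent_pullback I.subschemeι M
  obtain ⟨eq⟩ := Groth.Agent.S0012.result I.subschemeι
    ((Scheme.Modules.pullback I.subschemeι).obj M) 1
  haveI : Subsingleton (Coh.HH I.subscheme ((Scheme.Modules.pullback I.subschemeι).obj M) 1) :=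
    Groth.Agent.S0007.result _ _ 1 Nat.one_pos
  have h2 : Subsingleton (Coh.HH X ((Coh.push I.subschemeι).obj
      ((Scheme.Modules.pullback I.subschemeι).obj M)) 1) :=
    eq.symm.injective.subsingleton
  exact subsingleton_HH_of_iso e 1 h2

/-- the product of a list of ideal sheaves -/
noncomputable def prodI : List X.IdealSheafData → X.IdealSheafData
  | [] => ⊤
  | I :: l => I * prodI l

theorem h1_of_killed_prod (l : List X.IdealSheafData) (hl : ∀ I ∈ l, IsAffine I.subscheme) :
    ∀ (M : X.Modules) [M.IsQuasicoherent], ClSub.KilledByIdeal (prodI l) M →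
      Subsingleton (Coh.HH X M 1) := by
  induction l with
  | nil =>
    intro M _ hk
    exact H1Ext.subsingleton_HH_of_isZero (isZero_of_killedByIdeal_top M hk) 1
  | cons I l ih =>
    intro M _ hk
    haveI : IsAffine I.subscheme := hl I List.mem_cons_self
    let S : ShortComplex X.Modules := ShortComplex.mk (Dual3.idealMulι I M)
      (cokernel.π (Dual3.idealMulι I M)) (cokernel.condition _)
    have hS : S.ShortExact :=
      { exact := ShortComplex.exact_of_g_is_cokernel _ (cokernelIsCokernel _)
        mono_f := inferInstanceAs (Mono (Dual3.idealMulι I M))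
        epi_g := inferInstanceAs (Epi (cokernel.π (Dual3.idealMulι I M))) }
    haveI : ((Dual3.idealMul I).obj M).IsQuasicoherent := inferInstance
    haveI : (cokernel (Dual3.idealMulι I M)).IsQuasicoherent :=
      QcAbel.isQuasicoherent_cokernel (Dual3.idealMulι I M)
    have h1 : Subsingleton (Coh.HH X ((Dual3.idealMul I).obj M) 1) :=
      ih (fun J hJ => hl J (List.mem_cons_of_mem _ hJ)) _
        (killedByIdeal_idealMul_of_killed_mul I (prodI l) M hk)
    have h3 : Subsingleton (Coh.HH X (cokernel (Dual3.idealMulι I M)) 1) :=
      h1_of_killed I _ (killedByIdeal_cokernel_idealMulι I M)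
    exact H1Ext.subsingleton_HH_mid (S := S) hS 1 h1 h3

theorem mem_support_prodI (x : X) :
    ∀ l : List X.IdealSheafData, (∃ I ∈ l, x ∈ I.support) → x ∈ (prodI l).support := by
  intro l
  induction l with
  | nil =>
    rintro ⟨I, hI, -⟩
    exact absurd hI List.not_mem_nil
  | cons J l ih =>
    rintro ⟨I, hI, hx⟩
    show x ∈ (J * prodI l).support
    rw [Scheme.IdealSheafData.support_mul]
    rcases List.mem_cons.mp hI with rfl | hI'
    · exact Or.inl hx
    · exact Or.inr (ih ⟨I, hI', hx⟩)

theorem isAffine_of_list (X : Scheme.{u}) (l : List X.IdealSheafData)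
    (hl : ∀ I ∈ l, IsAffine I.subscheme) (hcov : ∀ x : X, ∃ I ∈ l, x ∈ I.support) :
    IsAffine X := by
  have hsupp : ∀ x : X, x ∈ (prodI l).support := fun x => mem_support_prodI x l (hcov x)
  have hsurj : Function.Surjective (prodI l).subschemeι := by
    intro x
    have : x ∈ Set.range (prodI l).subschemeι := by
      rw [(prodI l).range_subschemeι]
      exact hsupp x
    exact this
  haveI : CompactSpace X := by
    rw [← isCompact_univ_iff]
    have h1 : IsCompact (⋃ I ∈ {I | I ∈ l}, ((I.support : Set X))) := by
      refine l.finite_toSet.isCompact_biUnion fun I hI => ?_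
      haveI : IsAffine I.subscheme := hl I hI
      rw [← I.range_subschemeι]
      exact isCompact_range I.subschemeι.continuous
    have h2 : (Set.univ : Set X) = ⋃ I ∈ {I | I ∈ l}, ((I.support : Set X)) := by
      ext x
      simp only [Set.mem_univ, Set.mem_iUnion, true_iff]
      obtain ⟨I, hI, hx⟩ := hcov x
      exact ⟨I, hI, hx⟩
    rw [h2]
    exact h1
  suffices IsAffine (prodI l).subscheme from
    H9ThickAff.isAffine_of_thickening (prodI l).subschemeι hsurj
  haveI : CompactSpace (prodI l).subscheme :=
    (prodI l).subschemeι.isClosedEmbedding.compactSpace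
  refine Groth.Agent.S0009.result (prodI l).subscheme fun G i hi hq => ?_
  haveI : G.IsQuasicoherent := hq
  obtain ⟨eq⟩ := Groth.Agent.S0012.result (prodI l).subschemeι G 1
  haveI : ((Coh.push (prodI l).subschemeι).obj G).IsQuasicoherent :=
    PushQc.isQuasicoherent_pushforward (prodI l).subschemeι G
  have h := h1_of_killed_prod l hl ((Coh.push (prodI l).subschemeι).obj G)
    (Groth.Agent.Lib.Helper4.SubPush1.killedByIdeal_push (prodI l) G)
  exact eq.injective.subsingleton

theorem main (X : Scheme.{u}) {κ : Type v} [Finite κ]
    (Z : κ → Scheme.{u}) (ι : ∀ k, Z k ⟶ X) [∀ k, IsClosedImmersion (ι k)] [∀ k, IsAffine (Z k)]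
    (hcov : ∀ x : X, ∃ k, x ∈ Set.range (ι k).base) : IsAffine X := by
  classical
  letI := Fintype.ofFinite κ
  refine isAffine_of_list X ((Finset.univ : Finset κ).toList.map fun k => (ι k).ker) ?_ ?_
  · intro I hI
    obtain ⟨k, -, rfl⟩ := List.mem_map.mp hI
    exact IsAffine.of_isIso (inv (ι k).toImage)
  · intro x
    obtain ⟨k, hk⟩ := hcov x
    exact ⟨(ι k).ker, List.mem_map.mpr ⟨k, Finset.mem_toList.mpr (Finset.mem_univ k), rfl⟩,
      (ι k).range_subset_ker_support hk⟩

end Groth.Agent.Helper7.AffCover
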